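import Groth.Prelude.Def_EtBase
import Groth.Agent.ProEtWC.EpsUnit
import Groth.Agent.EtCechLib.Etale

/-!
# The étale sheaf condition from Zariski descent and affine surjective morphisms
-/

set_option autoImplicit false
set_option linter.all false
set_option backward.isDefEq.respectTransparency.types false
set_option backward.isDefEq.respectTransparency false
set_option synthInstance.maxHeartbeats 400000
set_option maxHeartbeats 1000000

universe w u

open CategoryTheory Limits AlgebraicGeometry Opposite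
open Groth.Agent.ProEtWC.EpsUnit (openE openInclE etale_left)

namespace Groth.Agent.EtSheafCrit

variable {X : Scheme.{u}}

/-- The Zariski topology on the small étale category. -/
noncomputable abbrev zar (X : Scheme.{u}) : GrothendieckTopology X.Etale :=
  X.smallGrothendieckTopology (P := @IsOpenImmersion)

theorem le_etale : (@IsOpenImmersion : MorphismProperty Scheme.{u}) ≤ EtCoh.etaleMP.{u} :=
  fun _ _ f hf => (inferInstance : Etale f)

theorem mem_zar_iff {U : X.Etale} (R : Sieve U) :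
    R ∈ zar X U ↔ ∀ x : U.left, ∃ (Y : X.Etale) (f : Y ⟶ U) (y : Y.left),
      R f ∧ IsOpenImmersion f.left ∧ f.left y = x := by
  rw [zar, Scheme.smallGrothendieckTopology_eq_toGrothendieck_smallPretopology X le_etale]
  exact Scheme.mem_toGrothendieck_smallPretopology (P := @IsOpenImmersion) U R

theorem zar_le : zar X ≤ X.smallEtaleTopology := fun U R hR =>
  HenselLib.Kummer.mem_of_points U R fun x => by
    obtain ⟨Y, f, y, hf, -, hy⟩ := (mem_zar_iff R).1 hR x
    exact ⟨Y, f, y, hf, hy⟩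

theorem mem_of_surjective {U V : X.Etale} (f : V ⟶ U) [Surjective f.left] :
    Sieve.generate (Presieve.singleton f) ∈ X.smallEtaleTopology U :=
  HenselLib.Kummer.mem_of_points U _ fun x => by
    obtain ⟨y, hy⟩ := f.left.surjective x
    exact ⟨V, f, y, ⟨V, 𝟙 V, f, Presieve.singleton_self f, Category.id_comp f⟩, hy⟩

theorem mem_zar_openCover {U : X.Etale} {ι : Type*} (O : ι → U.left.Opens) (h : ∀ x, ∃ i, x ∈ O i) :
    Sieve.ofArrows (fun i => openE U (O i)) (fun i => openInclE U (O i)) ∈ zar X U :=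
  (mem_zar_iff _).2 fun x => by
    obtain ⟨i, hi⟩ := h x
    exact ⟨openE U (O i), openInclE U (O i), ⟨x, hi⟩, Sieve.ofArrows_mk _ _ i,
      inferInstanceAs (IsOpenImmersion (O i).ι), rfl⟩

variable {F : X.Etaleᵒᵖ ⥤ Type w}
  (hZ : Presieve.IsSheaf (zar X) F)
  (hS : ∀ (U V : X.Etale) [IsAffine U.left] [IsAffine V.left] (f : V ⟶ U) [Surjective f.left],
    Presieve.IsSheafFor F (Presieve.singleton f))

/-- The disjoint union of finitely many étale `X`-schemes. -/
noncomputable abbrev sigmaE {κ : Type u} [Finite κ] (Z : κ → X.Etale) : X.Etale :=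
  haveI : ∀ i, Etale (Z i).hom := fun i => (Z i).prop
  haveI : Etale (Sigma.desc fun i => (Z i).hom) := IsZariskiLocalAtSource.sigmaDesc (fun i => (Z i).prop)
  Scheme.Etale.mk (Sigma.desc fun i => (Z i).hom)

noncomputable abbrev sigmaιE {κ : Type u} [Finite κ] (Z : κ → X.Etale) (i : κ) : Z i ⟶ sigmaE Z :=
  MorphismProperty.Over.homMk (Sigma.ι (fun i => (Z i).left) i) (Sigma.ι_desc _ _) trivial

noncomputable abbrev sigmaDescE {κ : Type u} [Finite κ] {Z : κ → X.Etale} {U : X.Etale} (f : ∀ i, Z i ⟶ U) :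
    sigmaE Z ⟶ U :=
  MorphismProperty.Over.homMk (Sigma.desc fun i => (f i).left) (by
    refine Sigma.hom_ext _ _ fun i => ?_
    show Sigma.ι _ i ≫ Sigma.desc _ ≫ U.hom = Sigma.ι _ i ≫ Sigma.desc _
    rw [Sigma.ι_desc_assoc, Sigma.ι_desc]
    exact CategoryTheory.Over.w (f i).hom) trivial

theorem sigmaι_desc {κ : Type u} [Finite κ] {Z : κ → X.Etale} {U : X.Etale} (f : ∀ i, Z i ⟶ U) (i : κ) :
    sigmaιE Z i ≫ sigmaDescE f = f i :=
  (Scheme.Etale.forget X ⋙ CategoryTheory.Over.forget X).map_injective (Sigma.ι_desc _ i)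

theorem mem_zar_sigma {κ : Type u} [Finite κ] (Z : κ → X.Etale) :
    Sieve.ofArrows Z (sigmaιE Z) ∈ zar X (sigmaE Z) :=
  (mem_zar_iff _).2 fun x => by
    obtain ⟨i, y, hy⟩ := (Scheme.IsLocallyDirected.openCover (Discrete.functor fun i => (Z i).left)).exists_eq x
    exact ⟨Z i.as, sigmaιE Z i.as, y, Sieve.ofArrows_mk _ _ i.as,
      inferInstanceAs (IsOpenImmersion (Sigma.ι (fun i => (Z i).left) i.as)), hy⟩

include hZ in
theorem zar_ext {U : X.Etale} {ι : Type*} {Y : ι → X.Etale} (π : ∀ i, Y i ⟶ U)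
    (h : Sieve.ofArrows Y π ∈ zar X U) {s t : F.obj (op U)} (hst : ∀ i, F.map (π i).op s = F.map (π i).op t) :
    s = t :=
  ((hZ _ h).isSeparatedFor.ext fun Z f hf => by
    obtain ⟨i, g, rfl⟩ := (Sieve.mem_ofArrows_iff _ _ _).1 hf
    rw [op_comp, Functor.map_comp_apply, Functor.map_comp_apply, hst i])

/-- A finite affine family inside a covering sieve of an affine object. -/
theorem exists_affine_refinement {U : X.Etale} [IsAffine U.left] {T : Sieve U}
    (hT : T ∈ X.smallEtaleTopology U) :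
    ∃ (κ : Type u) (_ : Finite κ) (Z : κ → X.Etale) (f : ∀ i, Z i ⟶ U), (∀ i, IsAffine (Z i).left) ∧
      (∀ i, T.arrows (f i)) ∧ Function.Surjective (sigmaDescE f).left := by
  choose Z g hg z hz using fun x : U.left => EtCechLib.exists_mem_of_mem hT x
  choose O hO hzO _ using fun x : U.left => exists_isAffineOpen_mem_and_subset (X := (Z x).left)
    (x := z x) (U := ⊤) trivial
  let W : U.left → X.Etale := fun x => openE (Z x) (O x)
  let p : ∀ x, W x ⟶ U := fun x => openInclE (Z x) (O x) ≫ g x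
  have hp : ∀ x, IsOpen (Set.range (p x).left) := fun x => by
    haveI := etale_left (p x)
    exact (p x).left.isOpenMap.isOpen_range
  obtain ⟨s, hs⟩ := isCompact_univ.elim_finite_subcover (fun x => Set.range (p x).left) hp
    (fun x _ => Set.mem_iUnion.2 ⟨x, ⟨⟨z x, hzO x⟩, hz x⟩⟩)
  refine ⟨{x // x ∈ s}, inferInstance, fun i => W i.1, fun i => p i.1, fun i => hO i.1,
    fun i => T.downward_closed (hg i.1) _, fun x => ?_⟩
  obtain ⟨a, ha, y, hy⟩ := Set.mem_iUnion₂.1 (hs (Set.mem_univ x))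
  refine ⟨(sigmaιE (fun i : {x // x ∈ s} => W i.1) ⟨a, ha⟩).left y, ?_⟩
  exact (congrArg (fun m => m.left y) (sigmaι_desc (fun i : {x // x ∈ s} => p i.1) ⟨a, ha⟩)).trans hy

include hZ hS in
theorem separated_affine {U : X.Etale} [IsAffine U.left] {T : Sieve U} (hT : T ∈ X.smallEtaleTopology U)
    {s t : F.obj (op U)} (hst : ∀ ⦃Z : X.Etale⦄ (f : Z ⟶ U), T f → F.map f.op s = F.map f.op t) : s = t := by
  obtain ⟨κ, _, Z, f, hZa, hf, hsurj⟩ := exists_affine_refinement hT
  haveI := hZa
  haveI : IsAffine (sigmaE Z).left := inferInstanceAs (IsAffine (∐ fun i => (Z i).left))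
  haveI : Surjective (sigmaDescE f).left := ⟨hsurj⟩
  refine (hS U (sigmaE Z) (sigmaDescE f)).isSeparatedFor.ext fun Y g hg => ?_
  obtain ⟨⟩ := hg
  refine zar_ext hZ _ (mem_zar_sigma Z) fun i => ?_
  rw [← Functor.map_comp_apply, ← Functor.map_comp_apply, ← op_comp, sigmaι_desc]
  exact hst _ (hf i)

include hZ hS in
theorem separated {U : X.Etale} {T : Sieve U} (hT : T ∈ X.smallEtaleTopology U)
    {s t : F.obj (op U)} (hst : ∀ ⦃Z : X.Etale⦄ (f : Z ⟶ U), T f → F.map f.op s = F.map f.op t) : s = t := by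
  choose O hO hxO _ using fun x : U.left => exists_isAffineOpen_mem_and_subset (X := U.left)
    (x := x) (U := ⊤) trivial
  refine zar_ext hZ _ (mem_zar_openCover O fun x => ⟨x, hxO x⟩) fun x => ?_
  haveI : IsAffine (openE U (O x)).left := hO x
  refine separated_affine hZ hS (X.smallEtaleTopology.pullback_stable (openInclE U (O x)) hT) fun Z f hf => ?_
  rw [← Functor.map_comp_apply, ← Functor.map_comp_apply, ← op_comp]
  exact hst _ hf

include hZ hS in
theorem exists_amalgamation_affine {U : X.Etale} [IsAffine U.left] {T : Sieve U}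
    (hT : T ∈ X.smallEtaleTopology U) (x : Presieve.FamilyOfElements F T.arrows) (hx : x.Compatible) :
    ∃ t, x.IsAmalgamation t := by
  obtain ⟨κ, _, Z, f, hZa, hf, hsurj⟩ := exists_affine_refinement hT
  haveI := hZa
  haveI : IsAffine (sigmaE Z).left := inferInstanceAs (IsAffine (∐ fun i => (Z i).left))
  haveI : Surjective (sigmaDescE f).left := ⟨hsurj⟩
  have hsieve : Presieve.IsSheafFor F (Presieve.ofArrows Z (sigmaιE Z)) := by
    rw [Presieve.isSheafFor_iff_generate]
    exact hZ _ (mem_zar_sigma Z)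
  obtain ⟨y, hy, -⟩ := (Presieve.isSheafFor_arrows_iff F (sigmaιE Z)).1 hsieve (fun i => x (f i) (hf i))
    (fun i j W gi gj h => hx gi gj (hf i) (hf j) (by rw [← sigmaι_desc f i, ← sigmaι_desc f j, reassoc_of% h]))
  haveI : ∀ i, IsOpenImmersion (sigmaιE Z i).left := fun i =>
    inferInstanceAs (IsOpenImmersion (Sigma.ι (fun i => (Z i).left) i))
  have hcomp : ∀ {W : X.Etale} (g₁ g₂ : W ⟶ sigmaE Z), g₁ ≫ sigmaDescE f = g₂ ≫ sigmaDescE f →
      F.map g₁.op y = F.map g₂.op y := by
    intro W g₁ g₂ h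
    let P : κ → κ → W.left.Opens := fun i j => g₁.left ⁻¹ᵁ (sigmaιE Z i).left.opensRange ⊓
      g₂.left ⁻¹ᵁ (sigmaιE Z j).left.opensRange
    refine zar_ext hZ _ (mem_zar_openCover (fun p : κ × κ => P p.1 p.2) fun w => ?_) fun p => ?_
    · obtain ⟨i, a, ha⟩ := (Scheme.IsLocallyDirected.openCover
        (Discrete.functor fun i => (Z i).left)).exists_eq (g₁.left w)
      obtain ⟨j, b, hb⟩ := (Scheme.IsLocallyDirected.openCover
        (Discrete.functor fun i => (Z i).left)).exists_eq (g₂.left w)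
      exact ⟨(i.as, j.as), ⟨a, ha⟩, ⟨b, hb⟩⟩
    · obtain ⟨i, j⟩ := p
      have hr₁ : Set.range ((P i j).ι ≫ g₁.left) ⊆ Set.range (sigmaιE Z i).left := by
        rintro _ ⟨a, rfl⟩
        exact a.2.1
      have hr₂ : Set.range ((P i j).ι ≫ g₂.left) ⊆ Set.range (sigmaιE Z j).left := by
        rintro _ ⟨a, rfl⟩
        exact a.2.2
      let k₁ : openE W (P i j) ⟶ Z i := MorphismProperty.Over.homMk
        (IsOpenImmersion.lift (sigmaιE Z i).left ((P i j).ι ≫ g₁.left) hr₁) (by
          have e : (sigmaιE Z i).left ≫ (sigmaE Z).hom = (Z i).hom := CategoryTheory.Over.w (sigmaιE Z i).hom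
          show IsOpenImmersion.lift _ _ hr₁ ≫ (Z i).hom = (P i j).ι ≫ W.hom
          rw [← e, IsOpenImmersion.lift_fac_assoc, Category.assoc]
          exact congrArg (fun m => (P i j).ι ≫ m) (CategoryTheory.Over.w g₁.hom)) trivial
      let k₂ : openE W (P i j) ⟶ Z j := MorphismProperty.Over.homMk
        (IsOpenImmersion.lift (sigmaιE Z j).left ((P i j).ι ≫ g₂.left) hr₂) (by
          have e : (sigmaιE Z j).left ≫ (sigmaE Z).hom = (Z j).hom := CategoryTheory.Over.w (sigmaιE Z j).hom
          show IsOpenImmersion.lift _ _ hr₂ ≫ (Z j).hom = (P i j).ι ≫ W.hom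
          rw [← e, IsOpenImmersion.lift_fac_assoc, Category.assoc]
          exact congrArg (fun m => (P i j).ι ≫ m) (CategoryTheory.Over.w g₂.hom)) trivial
      have hk₁ : k₁ ≫ sigmaιE Z i = openInclE W (P i j) ≫ g₁ :=
        (Scheme.Etale.forget X ⋙ CategoryTheory.Over.forget X).map_injective (IsOpenImmersion.lift_fac _ _ hr₁)
      have hk₂ : k₂ ≫ sigmaιE Z j = openInclE W (P i j) ≫ g₂ :=
        (Scheme.Etale.forget X ⋙ CategoryTheory.Over.forget X).map_injective (IsOpenImmersion.lift_fac _ _ hr₂)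
      rw [← Functor.map_comp_apply, ← Functor.map_comp_apply, ← op_comp, ← op_comp, ← hk₁, ← hk₂, op_comp,
        op_comp, Functor.map_comp_apply, Functor.map_comp_apply, hy i, hy j]
      refine hx _ _ _ _ ?_
      rw [← sigmaι_desc f i, ← sigmaι_desc f j, reassoc_of% hk₁, reassoc_of% hk₂, h]
  obtain ⟨t, ht, -⟩ := (Presieve.isSheafFor_singleton (f := sigmaDescE f) (P := F)).1
    (hS U (sigmaE Z) (sigmaDescE f)) y hcomp
  refine ⟨t, fun W g hg => separated hZ hS (X.smallEtaleTopology.pullback_stable g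
    (HenselLib.Kummer.mem_of_points U (Sieve.ofArrows Z f) fun u => ?_)) fun V v hv => ?_⟩
  · obtain ⟨a, ha⟩ := hsurj u
    obtain ⟨i, b, hb⟩ := (Scheme.IsLocallyDirected.openCover (Discrete.functor fun i => (Z i).left)).exists_eq a
    refine ⟨Z i.as, f i.as, b, Sieve.ofArrows_mk _ _ i.as, ?_⟩
    rw [← ha, ← hb]
    exact (congrArg (fun m => m.left b) (sigmaι_desc f i.as)).symm
  · obtain ⟨i, e, he⟩ := (Sieve.mem_ofArrows_iff _ _ _).1 hv
    have h1 : F.map (f i).op t = x (f i) (hf i) := by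
      rw [← hy i, ← ht, ← Functor.map_comp_apply, ← op_comp, sigmaι_desc]
    rw [← Functor.map_comp_apply, ← op_comp, he, op_comp, Functor.map_comp_apply, h1]
    exact hx e v (hf i) hg he.symm

include hZ hS in
theorem isSheaf : Presieve.IsSheaf X.smallEtaleTopology F := by
  intro U T hT
  rw [← Presieve.isSeparatedFor_and_exists_isAmalgamation_iff_isSheafFor]
  refine ⟨fun x t₁ t₂ h₁ h₂ => separated hZ hS hT fun Z f hf => (h₁ f hf).trans (h₂ f hf).symm, fun x hx => ?_⟩
  choose O hO hxO _ using fun x : U.left => exists_isAffineOpen_mem_and_subset (X := U.left)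
    (x := x) (U := ⊤) trivial
  have haff : ∀ u, IsAffine (openE U (O u)).left := fun u => hO u
  choose s hs using fun u => @exists_amalgamation_affine X F hZ hS (openE U (O u)) (haff u) _
    (X.smallEtaleTopology.pullback_stable (openInclE U (O u)) hT) _ (hx.pullback (openInclE U (O u)))
  have hzar : Presieve.IsSheafFor F (Presieve.ofArrows (fun u => openE U (O u)) fun u => openInclE U (O u)) := by
    rw [Presieve.isSheafFor_iff_generate]
    exact hZ _ (mem_zar_openCover O fun u => ⟨u, hxO u⟩)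
  obtain ⟨t, ht, -⟩ := (Presieve.isSheafFor_arrows_iff F _).1 hzar s (fun i j W gi gj h => by
    refine separated hZ hS (X.smallEtaleTopology.pullback_stable (gi ≫ openInclE U (O i)) hT) fun V v hv => ?_
    rw [← Functor.map_comp_apply, ← Functor.map_comp_apply, ← op_comp, ← op_comp]
    have hv' : T ((v ≫ gi) ≫ openInclE U (O i)) := by rw [Category.assoc]; exact hv
    have hv'' : T ((v ≫ gj) ≫ openInclE U (O j)) := by rw [Category.assoc, ← h]; exact hv
    refine (hs i (v ≫ gi) hv').trans (Eq.trans ?_ (hs j (v ≫ gj) hv'').symm)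
    show x ((v ≫ gi) ≫ openInclE U (O i)) hv' = x ((v ≫ gj) ≫ openInclE U (O j)) hv''
    congr 1
    rw [Category.assoc, Category.assoc, h])
  refine ⟨t, fun W g hg => separated hZ hS (X.smallEtaleTopology.pullback_stable g
    (zar_le _ (mem_zar_openCover O fun u => ⟨u, hxO u⟩))) fun V v hv => ?_⟩
  obtain ⟨u, e, he⟩ := (Sieve.mem_ofArrows_iff _ _ _).1 hv
  have he' : T (e ≫ openInclE U (O u)) := by rw [← he]; exact T.downward_closed hg v
  rw [← Functor.map_comp_apply, ← op_comp, he, op_comp, Functor.map_comp_apply, ht u]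
  refine (hs u e he').trans ?_
  show x (e ≫ openInclE U (O u)) he' = F.map v.op (x g hg)
  rw [← hx.to_sieveCompatible g v hg]
  congr 1
  exact he.symm

end Groth.Agent.EtSheafCrit
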